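import Groth.Agent.H29RR.FiniteGen
import Groth.Agent.H29RR.GenPoint
import Groth.Agent.H29RR.Pencil
import Groth.Agent.H29RR.Consts
import Groth.Agent.H29RR.Generation

/-!
# First cohomology of globally generated modules on curves with `H¹(O) = 0`
-/

set_option autoImplicit false
set_option linter.style.haveILetI false
set_option linter.unusedSectionVars false
universe u

open CategoryTheory CategoryTheory.Limits AlgebraicGeometry TopologicalSpace Opposite

namespace Groth.Agent.H29CurveVan

open Groth.Agent.H29RR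

attribute [local instance 10000] H10Coh.hasSheafifyAb H10Coh.hasWeakSheafifyAb H10Coh.hasExtAb H10Coh.enoughInjAb

variable {k : Type u} [Field k] {X : Scheme.{u}} [X.Over (Spec (CommRingCat.of k))]

include k in
/-- An object decomposed into finitely many copies of an acyclic one is acyclic. -/
theorem subsingleton_of_decomposition {A G : X.Modules} {r n : ℕ} (ι : Fin r → (A ⟶ G)) (π : Fin r → (G ⟶ A))
    (htot : ∑ i, π i ≫ ι i = 𝟙 G) (h : Subsingleton (Coh.HH X A n)) : Subsingleton (Coh.HH X G n) := by
  refine subsingleton_of_forall_eq 0 fun x => ?_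
  rw [← H29RR.hhlin_id (k := k) G n x, ← htot, H29RR.hhlin_sum]
  refine Finset.sum_eq_zero fun i _ => ?_
  rw [H29RR.hhlin_comp, Subsingleton.elim (Canon.HHlin k (π i) n x) 0, map_zero]

/-- A globally generated coherent module is a quotient of a finite free one. -/
theorem exists_epi_freeMod [IsNoetherian X] {M : X.Modules} (hM : Coh.IsCoh M) (hgg : Curv2.IsGloballyGenerated M) :
    ∃ (N : ℕ) (φ : FlatMod.freeMod X N ⟶ M), Epi φ := by
  obtain ⟨N, g, hg⟩ := exists_spansStalks hM fun x => spansAt_of_globallyGenerated hgg x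
  let φ : FlatMod.freeMod X N ⟶ M := Sigma.desc fun j => H11Tilde.homOfGlobal M (g j)
  refine ⟨N, φ, Preadditive.epi_of_cokernel_zero (IsZero.eq_of_tgt (H25Par.isZero_of_stalks _ fun y => ?_) _ _)⟩
  refine H10Coh.subsingleton_stalk_cokernel φ y ?_
  show Function.Surjective (H06Mod.stalkLin φ y)
  rw [← LinearMap.range_eq_top, eq_top_iff, ← hg y, Submodule.span_le]
  rintro _ ⟨j, rfl⟩
  refine ⟨(DerSch.stalkFunctor X y).map (Sigma.ι (fun _ : Fin N => Coh.structureModule X) j) |>.hom
    ((Coh.structureModule X).presheaf.germ ⊤ y trivial (H11Ample.one ⊤)), ?_⟩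
  refine (stalkLin_comp _ _ y _).symm.trans ?_
  rw [Sigma.ι_desc, germ_app]
  congr 1
  exact (H11Tilde.homOfGlobal_app M _ ⊤ _).trans ((one_smul _ _).trans
    (ConcreteCategory.congr_hom (M.presheaf.map_id (op ⊤)) _))

/-- An epimorphism on a curve is surjective on first cohomology. -/
theorem surjective_one_of_epi [IsNoetherian X] (hdim : topologicalKrullDim X ≤ 1) {F G : X.Modules} (φ : F ⟶ G)
    [Epi φ] : Function.Surjective (Canon.HHlin k φ 1) := by
  haveI : Subsingleton (Coh.HH X (kernel φ) 2) :=
    LeadVan.subsingleton_H_of_dim_le 1 (by exact_mod_cast hdim) _ 2 one_lt_two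
  have hS : (ShortComplex.mk (kernel.ι φ) φ (kernel.condition φ)).ShortExact :=
    { exact := ShortComplex.exact_kernel _ }
  exact fun x => Abelian.Ext.covariant_sequence_exact₃ _ (H10Coh.shortExact_sh hS) x (n₁ := 2) rfl
    (Subsingleton.elim (α := Coh.HH X (kernel φ) 2) _ _)

theorem exists_decomposition_free (N : ℕ) :
    ∃ (ι : Fin N → (Coh.structureModule X ⟶ FlatMod.freeMod X N))
      (π : Fin N → (FlatMod.freeMod X N ⟶ Coh.structureModule X)), ∑ i, π i ≫ ι i = 𝟙 _ := by
  classical
  refine ⟨fun i => Sigma.ι (fun _ : Fin N => Coh.structureModule X) i,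
    fun i => Sigma.desc fun j => if j = i then 𝟙 _ else 0, Sigma.hom_ext _ _ fun j => ?_⟩
  rw [Preadditive.comp_sum, Category.comp_id, Finset.sum_eq_single j]
  · rw [Sigma.ι_desc_assoc, if_pos rfl, Category.id_comp]
  · intro i _ hij
    rw [Sigma.ι_desc_assoc, if_neg (Ne.symm hij), zero_comp]
  · intro h; exact absurd (Finset.mem_univ j) h

include k in
variable (k) in
/-- Twists of globally generated modules have no first cohomology if the twisting module has none. -/
theorem subsingleton_h1_tensor [IsNoetherian X] (hdim : topologicalKrullDim X ≤ 1) (A : X.Modules)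
    (hA : Subsingleton (Coh.HH X (CohB1.tensorMod (Coh.structureModule X) A) 1)) {M : X.Modules}
    (hM : Coh.IsCoh M) (hgg : Curv2.IsGloballyGenerated M) :
    Subsingleton (Coh.HH X (CohB1.tensorMod M A) 1) := by
  obtain ⟨N, φ, hφ⟩ := exists_epi_freeMod hM hgg
  obtain ⟨ι, π, htot⟩ := exists_decomposition_free (X := X) N
  let T := (DCoh.tensorBi (X := X)).flip.obj A
  haveI : PreservesColimitsOfSize.{0, 0} T :=
    haveI := preservesColimitsOfSize_shrink.{0, u, 0, u} T
    inferInstance
  haveI : Epi (T.map φ) := inferInstance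
  have hG : Subsingleton (Coh.HH X (T.obj (FlatMod.freeMod X N)) 1) := by
    refine subsingleton_of_decomposition (k := k) (fun i => T.map (ι i)) (fun i => T.map (π i)) ?_ hA
    simp only [← T.map_comp, ← T.map_sum, htot, T.map_id]
  exact (surjective_one_of_epi (k := k) hdim (T.map φ)).subsingleton

variable [IsProper (X ↘ Spec (CommRingCat.of k))]

include k in
variable (k) in
/-- Globally generated coherent modules have no first cohomology. -/
theorem subsingleton_h1_of_gg (hdim : topologicalKrullDim X ≤ 1)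
    (hO : Subsingleton (Coh.HH X (Coh.structureModule X) 1)) {M : X.Modules}
    (hM : Coh.IsCoh M) (hgg : Curv2.IsGloballyGenerated M) : Subsingleton (Coh.HH X M 1) := by
  haveI := isNoetherian_of_proper (k := k) (X := X)
  obtain ⟨N, φ, hφ⟩ := exists_epi_freeMod hM hgg
  obtain ⟨ι, π, htot⟩ := exists_decomposition_free (X := X) N
  haveI := subsingleton_of_decomposition (k := k) ι π htot hO
  exact (surjective_one_of_epi (k := k) hdim φ).subsingleton

variable (k) in
/-- The ideal of a rational point has no first cohomology. -/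
theorem subsingleton_h1_ptIdeal [IsAlgClosed k] (hO : Subsingleton (Coh.HH X (Coh.structureModule X) 1))
    {x : X} (hx : IsClosed ({x} : Set X)) : Subsingleton (Coh.HH X (ClSub.idealMod (ptIdeal x)) 1) := by
  haveI := isNoetherian_of_proper (k := k) (X := X)
  let I := ptIdeal x
  haveI := H10Coh.epi_toSubscheme I
  have hS : (ShortComplex.mk (ClSub.idealModι I) (ClSub.toSubscheme I) (kernel.condition _)).ShortExact :=
    { exact := ShortComplex.exact_kernel _
      mono_f := inferInstanceAs (Mono (kernel.ι _)) }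
  have h1 : Module.finrank k (Coh.HH X (ClSub.quotMod I) 0) = 1 := by
    rw [finrank_h0_quotMod_pt hx, finrank_residue_eq_one hx]
  let v : Coh.HH X (Coh.structureModule X) 0 := (sec (Coh.structureModule X)).symm (H11Ample.one ⊤)
  let w := Canon.HHlin k (ClSub.toSubscheme I) 0 v
  have hw : w ≠ 0 := by
    intro h0
    have h := congrArg (sec (ClSub.quotMod I)) h0
    rw [sec_natural, AddEquiv.apply_symm_apply, map_zero] at h
    haveI : Nontrivial (Coh.HH X (ClSub.quotMod I) 0) := Module.nontrivial_of_finrank_eq_succ h1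
    haveI : Nontrivial Γ(ClSub.quotMod I, ⊤) := (sec (ClSub.quotMod I)).injective.nontrivial
    haveI : Nontrivial Γ(I.subscheme, ⊤) := ‹Nontrivial Γ(ClSub.quotMod I, ⊤)›
    exact one_ne_zero (α := Γ(I.subscheme, ⊤)) ((map_one (I.subschemeι.app ⊤).hom).symm.trans h)
  have hsurj : Function.Surjective (Canon.HHlin k (ClSub.toSubscheme I) 0) := fun z => by
    obtain ⟨c, hc⟩ := exists_smul_eq_of_finrank_eq_one h1 hw z
    exact ⟨c • v, (map_smul _ _ _).trans hc⟩
  refine subsingleton_of_forall_eq 0 fun y => ?_
  obtain ⟨z, hz⟩ := Abelian.Ext.covariant_sequence_exact₁ _ (H10Coh.shortExact_sh hS) y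
    (Subsingleton.elim (α := Coh.HH X (Coh.structureModule X) 1) _ _) (n₀ := 0) rfl
  obtain ⟨z', rfl⟩ := hsurj z
  rw [← hz]
  show ((z'.comp (Abelian.Ext.mk₀ _) (add_zero 0))).comp _ _ = 0
  exact Abelian.Ext.comp_assoc_of_second_deg_zero .. |>.trans
    ((congrArg (fun t => Abelian.Ext.comp z' t (zero_add 1)) (H10Coh.shortExact_sh hS).comp_extClass).trans
      (Abelian.Ext.comp_zero _ _ _ _ _))

end Groth.Agent.H29CurveVan
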